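import Groth.Agent.Lib.CohDer19.LeftRes
import Groth.Agent.Lib.Horseshoe
import Mathlib.Algebra.Homology.HomotopyCategory.MappingCone
import Mathlib.Algebra.Homology.Embedding.CochainComplex

/-! Special direct systems of left resolutions. -/

set_option autoImplicit false
universe v u

open CategoryTheory CategoryTheory.Limits ZeroObject
open HomologicalComplex
open CochainComplex (mappingCone)

namespace GrothLib.SpecSys19.Left

variable {A : Type u} [Category.{v} A] [Abelian A]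

theorem mono_inr_f (Q : CochainComplex A ℤ) (i : ℤ) : Mono ((mappingCone.inr (𝟙 Q)).f i) :=
  SplitMono.mono ⟨(mappingCone.snd (𝟙 Q)).v i i (add_zero i), mappingCone.inr_f_snd_v _ _⟩

theorem acyclic_cone (Q : CochainComplex A ℤ) (n : ℤ) : (mappingCone (𝟙 Q)).ExactAt n := by
  rw [exactAt_iff_isZero_homology, IsZero.iff_id_eq_zero]
  have h := (mappingCone.homotopyToZeroOfId Q).homologyMap_eq n
  rwa [homologyMap_id, homologyMap_zero] at h

theorem isStrictlyLE_cone (Q : CochainComplex A ℤ) (a : ℤ) [Q.IsStrictlyLE a] :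
    (mappingCone (𝟙 Q)).IsStrictlyLE a := by
  rw [CochainComplex.isStrictlyLE_iff]
  intro i hi
  rw [IsZero.iff_id_eq_zero]
  have h := mappingCone.id_X (𝟙 Q) i (i + 1) rfl
  rw [(Q.isZero_of_isStrictlyLE a i hi).eq_of_tgt ((mappingCone.snd (𝟙 Q)).v i i (add_zero i)) 0,
    (Q.isZero_of_isStrictlyLE a (i + 1) (by omega)).eq_of_tgt ((mappingCone.fst (𝟙 Q)).1.v i (i + 1) rfl) 0,
    zero_comp, zero_comp, add_zero] at h
  exact h.symm

variable (I : ObjectProperty A) [I.IsClosedUnderIsomorphisms]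
  (hI0 : ∃ Z : A, IsZero Z ∧ I Z) (hIsum : ∀ X Y : A, I X → I Y → I (X ⊞ Y))
  (hI : ∀ X : A, ∃ (Y : A) (π : Y ⟶ X), I Y ∧ Epi π)

include hI0 hIsum hI in
theorem exists_next {T Q : CochainComplex A ℤ} (f : Q ⟶ T) (a : ℤ) [T.IsStrictlyLE a] [Q.IsStrictlyLE a]
    (hQ : ∀ i, I (Q.X i)) :
    ∃ (Q' : CochainComplex A ℤ) (ι : Q ⟶ Q') (φ : Q' ⟶ T), ι ≫ φ = f ∧ QuasiIso φ ∧ (∀ i, Epi (φ.f i)) ∧
      Q'.IsStrictlyLE a ∧ (∀ i, I (Q'.X i)) ∧
      ∀ i, (∃ r : Q'.X i ⟶ Q.X i, ι.f i ≫ r = 𝟙 _) ∧ I (cokernel (ι.f i)) := by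
  let M := T ⊞ mappingCone (𝟙 Q)
  let j : Q ⟶ M := biprod.lift f (mappingCone.inr (𝟙 Q))
  let r : ∀ i, M.X i ⟶ Q.X i := fun i =>
    (biprod.snd : M ⟶ mappingCone (𝟙 Q)).f i ≫ (mappingCone.snd (𝟙 Q)).v i i (add_zero i)
  have hr : ∀ i, j.f i ≫ r i = 𝟙 _ := fun i => by
    simp only [r, ← Category.assoc, ← comp_f, j, biprod.lift_snd]
    exact mappingCone.inr_f_snd_v _ _
  have : ∀ i, Mono (j.f i) := fun i => SplitMono.mono ⟨r i, hr i⟩
  have : Mono j := mono_of_mono_f _ inferInstance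
  have hMz : ∀ i, a < i → IsZero (M.X i) := fun i hi => by
    have := isStrictlyLE_cone Q a
    exact IsZero.of_iso ((biprod_isZero_iff _ _).2
      ⟨T.isZero_of_isStrictlyLE a i hi, (mappingCone (𝟙 Q)).isZero_of_isStrictlyLE a i hi⟩)
      ((eval A (ComplexShape.up ℤ) i).mapBiprod T (mappingCone (𝟙 Q)))
  have hNLE : (cokernel j).IsStrictlyLE a := by
    rw [CochainComplex.isStrictlyLE_iff]
    exact fun i hi => IsZero.of_epi ((cokernel.π j).f i) (hMz i hi)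
  obtain ⟨P, ψ, hPa, hPI, hψe, hψ⟩ := GrothLib.CohDer19.LeftRes.exists_resolution (P := I) hI0 hI (cokernel j) a
  have : Epi ψ := epi_of_epi_f _ hψe
  let Q' := pullback (cokernel.π j) ψ
  let ι : Q ⟶ Q' := pullback.lift j 0 (by simp)
  let S₁ := ShortComplex.mk j (cokernel.π j) (cokernel.condition j)
  let S₂ : ShortComplex (CochainComplex A ℤ) :=
    ShortComplex.mk ι (pullback.snd (cokernel.π j) ψ) (pullback.lift_snd _ _ _)
  have hS₁ : S₁.ShortExact :=
    { exact := ShortComplex.exact_cokernel j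
      mono_f := inferInstanceAs (Mono j)
      epi_g := inferInstanceAs (Epi (cokernel.π j)) }
  have : Mono S₁.f := hS₁.mono_f
  have : Epi S₁.g := hS₁.epi_g
  have monoι : Mono ι := by
    have : Mono (ι ≫ pullback.fst (cokernel.π j) ψ) := by
      rw [pullback.lift_fst]; infer_instance
    exact mono_of_mono ι (pullback.fst (cokernel.π j) ψ)
  have : Mono S₂.f := monoι
  have hS₂ : S₂.ShortExact :=
    { epi_g := inferInstanceAs (Epi (pullback.snd (cokernel.π j) ψ))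
      mono_f := monoι
      exact := by
        refine ShortComplex.exact_of_f_is_kernel _ (KernelFork.IsLimit.ofι' _ _ fun {W} k hk => ?_)
        have h0 : (k ≫ pullback.fst (cokernel.π j) ψ) ≫ S₁.g = 0 := by
          change (k ≫ pullback.fst (cokernel.π j) ψ) ≫ cokernel.π j = 0
          rw [Category.assoc, pullback.condition, reassoc_of% hk, zero_comp]
        refine ⟨hS₁.exact.lift _ h0, ?_⟩
        apply pullback.hom_ext
        · rw [Category.assoc, pullback.lift_fst]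
          exact hS₁.exact.lift_f _ h0
        · rw [Category.assoc, pullback.lift_snd, comp_zero, hk] }
  let Ψ : S₂ ⟶ S₁ :=
    { τ₁ := 𝟙 Q
      τ₂ := pullback.fst (cokernel.π j) ψ
      τ₃ := ψ
      comm₁₂ := (Category.id_comp _).trans (pullback.lift_fst _ _ _).symm
      comm₂₃ := pullback.condition }
  have hq₂ : QuasiIso (pullback.fst (cokernel.π j) ψ) :=
    Groth.Agent.Horseshoe.quasiIso_τ₂ Ψ hS₂ hS₁ (inferInstanceAs (QuasiIso (𝟙 Q))) hψ
  have hfst : QuasiIso (biprod.fst : M ⟶ T) := ⟨fun n => by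
    rw [quasiIsoAt_iff_isIso_homologyMap]
    refine ⟨⟨homologyMap biprod.inl n, ?_, ?_⟩⟩
    · rw [← homologyMap_comp, ← homologyMap_id]
      conv_rhs => rw [← biprod.total, homologyMap_add, homologyMap_comp biprod.snd biprod.inr,
        ((exactAt_iff_isZero_homology _ _).1 (acyclic_cone Q n)).eq_of_src
          (homologyMap (biprod.inr : mappingCone (𝟙 Q) ⟶ M) n) 0, comp_zero, add_zero]
    · rw [← homologyMap_comp, biprod.inl_fst, homologyMap_id]⟩
  have hS₂i : ∀ i, (S₂.map (eval A (ComplexShape.up ℤ) i)).ShortExact := fun i => hS₂.map_of_exact _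
  have hsp : ∀ i, ι.f i ≫ ((pullback.fst (cokernel.π j) ψ).f i ≫ r i) = 𝟙 _ := fun i => by
    rw [← Category.assoc, ← comp_f, pullback.lift_fst, hr]
  refine ⟨Q', ι, pullback.fst _ _ ≫ biprod.fst, (pullback.lift_fst_assoc _ _ _ _).trans (biprod.lift_fst _ _),
    inferInstance, fun i => ?_, ?_, fun i => ?_, fun i => ⟨⟨_, hsp i⟩, ?_⟩⟩
  · rw [comp_f]
    have : Epi ((biprod.fst : M ⟶ T).f i) := inferInstanceAs (Epi ((eval A (ComplexShape.up ℤ) i).map _))
    have : Epi ((pullback.fst (cokernel.π j) ψ).f i) :=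
      inferInstanceAs (Epi ((eval A (ComplexShape.up ℤ) i).map _))
    infer_instance
  · rw [CochainComplex.isStrictlyLE_iff]
    intro i hi
    exact (hS₂i i).exact.isZero_X₂ ((Q.isZero_of_isStrictlyLE a i hi).eq_of_src _ _)
      ((P.isZero_of_isStrictlyLE a i hi).eq_of_tgt _ _)
  · have hsplit : Nonempty (S₂.map (eval A (ComplexShape.up ℤ) i)).Splitting :=
      ⟨ShortComplex.Splitting.ofExactOfRetraction _ (hS₂i i).exact _ (hsp i) (hS₂i i).epi_g⟩
    exact I.prop_of_iso hsplit.some.isoBinaryBiproduct.symm (hIsum _ _ (hQ i) (hPI i))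
  · have := (hS₂i i).epi_g
    exact I.prop_of_iso ((hS₂i i).exact.gIsCokernel.coconePointUniqueUpToIso (colimit.isColimit _)) (hPI i)

variable (K : CochainComplex A ℤ)

/-- A stage. -/
structure Stage (n : ℕ) where
  /-- The complex. -/
  Q : CochainComplex A ℤ
  /-- The resolution map. -/
  π : Q ⟶ K.truncLE (n : ℤ)
  qis : QuasiIso π
  epi : ∀ i, Epi (π.f i)
  le : Q.IsStrictlyLE (n : ℤ)
  mem : ∀ i, I (Q.X i)

include hI0 hI in
theorem exists_start : Nonempty (Stage I K 0) := by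
  obtain ⟨P, ψ, hPa, hPI, hψe, hψ⟩ :=
    GrothLib.CohDer19.LeftRes.exists_resolution (P := I) hI0 hI (K.truncLE ((0 : ℕ) : ℤ)) ((0 : ℕ) : ℤ)
  exact ⟨⟨P, ψ, hψ, hψe, hPa, hPI⟩⟩

/-- The transition map of truncations. -/
noncomputable def trans (a b : ℤ) (h : a ≤ b) : K.truncLE a ⟶ K.truncLE b :=
  haveI : (K.truncLE a).IsStrictlyLE b := (K.truncLE a).isStrictlyLE_of_le a b h
  inv ((K.truncLE a).ιTruncLE b) ≫ CochainComplex.truncLEMap (K.ιTruncLE a) b

theorem trans_ι (a b : ℤ) (h : a ≤ b) : trans K a b h ≫ K.ιTruncLE b = K.ιTruncLE a := by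
  have : (K.truncLE a).IsStrictlyLE b := (K.truncLE a).isStrictlyLE_of_le a b h
  simp [trans]

include hI0 hIsum hI in
theorem exists_system :
    ∃ (Q : ℕ → CochainComplex A ℤ) (ι : ∀ n, Q n ⟶ Q (n + 1)) (π : ∀ n : ℕ, Q n ⟶ K.truncLE (n : ℤ)),
      (∀ n, QuasiIso (π n) ∧ ∀ i, Epi ((π n).f i)) ∧
      (∀ n, ∃ b : ℤ, (Q n).IsStrictlyLE b) ∧ (∀ n i, I ((Q n).X i)) ∧
      (∀ n i, (∃ r : (Q (n + 1)).X i ⟶ (Q n).X i, (ι n).f i ≫ r = 𝟙 _) ∧ I (cokernel ((ι n).f i))) ∧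
      (∀ n : ℕ, π n ≫ K.ιTruncLE (n : ℤ) = ι n ≫ π (n + 1) ≫ K.ιTruncLE ((n + 1 : ℕ) : ℤ)) := by
  have step : ∀ n (S : Stage I K n), ∃ (S' : Stage I K (n + 1)) (ι : S.Q ⟶ S'.Q),
      ι ≫ S'.π = S.π ≫ trans K _ _ (by omega) ∧
      ∀ i, (∃ r : S'.Q.X i ⟶ S.Q.X i, ι.f i ≫ r = 𝟙 _) ∧ I (cokernel (ι.f i)) := by
    intro n S
    have := S.le
    have : S.Q.IsStrictlyLE ((n + 1 : ℕ) : ℤ) := S.Q.isStrictlyLE_of_le (n : ℤ) _ (by omega)
    obtain ⟨Q', ι, φ, h1, h2, h3, h4, h5, h6⟩ := exists_next I hI0 hIsum hI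
      (S.π ≫ trans K (n : ℤ) ((n + 1 : ℕ) : ℤ) (by omega)) ((n + 1 : ℕ) : ℤ) S.mem
    exact ⟨⟨Q', φ, h2, h3, h4, h5⟩, ι, h1, h6⟩
  choose next ι hι hι' using step
  let st : ∀ n, Stage I K n := fun n => Nat.rec (exists_start I hI0 hI K).some (fun m S => next m S) n
  refine ⟨fun n => (st n).Q, fun n => ι n (st n), fun n => (st n).π, fun n => ⟨(st n).qis, (st n).epi⟩,
    fun n => ⟨_, (st n).le⟩, fun n => (st n).mem, fun n => hι' n (st n), fun n => ?_⟩
  change _ = ι n (st n) ≫ (next n (st n)).π ≫ K.ιTruncLE _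
  rw [reassoc_of% hι n (st n), trans_ι]

end GrothLib.SpecSys19.Left
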