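import Groth.Agent.Lib.ClassResolution.Basic
import Groth.Agent.Lib.Horseshoe
import Mathlib.Algebra.Homology.HomotopyCategory.MappingCocone
import Mathlib.Algebra.Homology.HomologySequenceLemmas
import Mathlib.Algebra.Homology.Embedding.CochainComplex

/-! Special inverse systems of right resolutions. -/

set_option autoImplicit false
universe v u

open CategoryTheory CategoryTheory.Limits ZeroObject
open HomologicalComplex
open CochainComplex (mappingCone mappingCocone)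

namespace GrothLib.SpecSys19

variable {A : Type u} [Category.{v} A] [Abelian A]

instance epi_fst_f (Q : CochainComplex A ℤ) (i : ℤ) : Epi ((mappingCocone.fst (𝟙 Q)).f i) :=
  (SplitEpi.mk ((mappingCocone.inl (𝟙 Q)).v i i (add_zero i)) (mappingCocone.inl_v_fst_f _ _)).epi

theorem acyclic_cocone (Q : CochainComplex A ℤ) (n : ℤ) : (mappingCocone (𝟙 Q)).ExactAt n := by
  rw [exactAt_iff_isZero_homology]
  refine IsZero.of_iso ?_ ((CochainComplex.ShiftSequence.shiftIso A (-1) n (-1 + n) rfl).app (mappingCone (𝟙 Q)))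
  rw [IsZero.iff_id_eq_zero]
  have h := (mappingCone.homotopyToZeroOfId Q).homologyMap_eq (-1 + n)
  rwa [homologyMap_id, homologyMap_zero] at h

theorem isStrictlyGE_cocone (Q : CochainComplex A ℤ) (a : ℤ) [Q.IsStrictlyGE a] :
    (mappingCocone (𝟙 Q)).IsStrictlyGE a := by
  rw [CochainComplex.isStrictlyGE_iff]
  intro i hi
  rw [IsZero.iff_id_eq_zero]
  have h := mappingCocone.id_X (𝟙 Q) i (i - 1) (by omega)
  rw [(Q.isZero_of_isStrictlyGE a i hi).eq_of_tgt ((mappingCocone.fst (𝟙 Q)).f i) 0,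
    (Q.isZero_of_isStrictlyGE a (i - 1) (by omega)).eq_of_tgt ((mappingCocone.snd (𝟙 Q)).v i (i - 1) (by omega)) 0,
    zero_comp, zero_comp, add_zero] at h
  exact h.symm

variable (I : ObjectProperty A) [I.IsClosedUnderIsomorphisms]
  (hI0 : ∃ Z : A, IsZero Z ∧ I Z) (hIprod : ∀ X Y : A, I X → I Y → I (X ⊞ Y))
  (hI : ∀ X : A, ∃ (Y : A) (ι : X ⟶ Y), I Y ∧ Mono ι)

include hI0 hIprod hI in
theorem exists_next {T Q : CochainComplex A ℤ} (f : T ⟶ Q) (a : ℤ) [T.IsStrictlyGE a] [Q.IsStrictlyGE a]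
    (hQ : ∀ i, I (Q.X i)) :
    ∃ (Q' : CochainComplex A ℤ) (p : Q' ⟶ Q) (φ : T ⟶ Q'), φ ≫ p = f ∧ QuasiIso φ ∧ (∀ i, Mono (φ.f i)) ∧
      Q'.IsStrictlyGE a ∧ (∀ i, I (Q'.X i)) ∧
      ∀ i, (∃ s : Q.X i ⟶ Q'.X i, s ≫ p.f i = 𝟙 _) ∧ I (kernel (p.f i)) := by
  let M := T ⊞ mappingCocone (𝟙 Q)
  let q : M ⟶ Q := biprod.desc f (mappingCocone.fst (𝟙 Q))
  let s : ∀ i, Q.X i ⟶ M.X i := fun i =>
    (mappingCocone.inl (𝟙 Q)).v i i (add_zero i) ≫ (biprod.inr : mappingCocone (𝟙 Q) ⟶ M).f i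
  have hs : ∀ i, s i ≫ q.f i = 𝟙 _ := fun i => by
    simp only [s, Category.assoc, ← comp_f, q, biprod.inr_desc]
    exact mappingCocone.inl_v_fst_f _ _
  have : ∀ i, Epi (q.f i) := fun i => (SplitEpi.mk (s i) (hs i)).epi
  have : Epi q := epi_of_epi_f _ inferInstance
  have hMz : ∀ i, i < a → IsZero (M.X i) := fun i hi => by
    have := isStrictlyGE_cocone Q a
    exact IsZero.of_iso ((biprod_isZero_iff _ _).2
      ⟨T.isZero_of_isStrictlyGE a i hi, (mappingCocone (𝟙 Q)).isZero_of_isStrictlyGE a i hi⟩)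
      ((eval A (ComplexShape.up ℤ) i).mapBiprod T (mappingCocone (𝟙 Q)))
  have hNGE : (kernel q).IsStrictlyGE a := by
    rw [CochainComplex.isStrictlyGE_iff]
    exact fun i hi => IsZero.of_mono ((kernel.ι q).f i) (hMz i hi)
  obtain ⟨Z, hZ, hIZ⟩ := hI0
  obtain ⟨P, ψ, hPa, hPI, hψm, hψ⟩ := GrothLib.ClassRes.exists_resolution (K := kernel q) (I := I) (a := a)
    hI hZ hIZ (fun n hn => (kernel q).isZero_of_isStrictlyGE a n hn)
  have : Mono ψ := mono_of_mono_f _ hψm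
  let Q' := pushout (kernel.ι q) ψ
  let p : Q' ⟶ Q := pushout.desc q 0 (by simp)
  let S₁ := ShortComplex.mk (kernel.ι q) q (kernel.condition q)
  let S₂ : ShortComplex (CochainComplex A ℤ) :=
    ShortComplex.mk (pushout.inr (kernel.ι q) ψ) p (pushout.inr_desc _ _ _)
  have hS₁ : S₁.ShortExact :=
    { exact := ShortComplex.exact_kernel q
      mono_f := inferInstanceAs (Mono (kernel.ι q))
      epi_g := inferInstanceAs (Epi q) }
  have : Mono S₁.f := hS₁.mono_f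
  have : Epi S₁.g := hS₁.epi_g
  have epip : Epi p := by
    have : Epi (pushout.inl (kernel.ι q) ψ ≫ p) := by
      rw [pushout.inl_desc]; infer_instance
    exact epi_of_epi (pushout.inl (kernel.ι q) ψ) p
  have : Epi S₂.g := epip
  have hS₂ : S₂.ShortExact :=
    { mono_f := inferInstanceAs (Mono (pushout.inr (kernel.ι q) ψ))
      epi_g := epip
      exact := by
        refine ShortComplex.exact_of_g_is_cokernel _ (CokernelCofork.IsColimit.ofπ' _ _ fun {W} k hk => ?_)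
        have h0 : S₁.f ≫ (pushout.inl (kernel.ι q) ψ ≫ k) = 0 := by
          change kernel.ι q ≫ _ = 0
          rw [pushout.condition_assoc, hk, comp_zero]
        refine ⟨hS₁.exact.desc _ h0, ?_⟩
        apply pushout.hom_ext
        · rw [pushout.inl_desc_assoc]
          exact hS₁.exact.g_desc _ h0
        · rw [pushout.inr_desc_assoc, zero_comp, hk] }
  let Ψ : S₁ ⟶ S₂ :=
    { τ₁ := ψ
      τ₂ := pushout.inl (kernel.ι q) ψ
      τ₃ := 𝟙 Q
      comm₁₂ := pushout.condition.symm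
      comm₂₃ := (pushout.inl_desc _ _ _).trans (Category.comp_id _).symm }
  have hq₂ : QuasiIso (pushout.inl (kernel.ι q) ψ) :=
    Groth.Agent.Horseshoe.quasiIso_τ₂ Ψ hS₁ hS₂ hψ (inferInstanceAs (QuasiIso (𝟙 Q)))
  have hinl : QuasiIso (biprod.inl : T ⟶ M) := ⟨fun n => by
    rw [quasiIsoAt_iff_isIso_homologyMap]
    refine ⟨⟨homologyMap biprod.fst n, ?_, ?_⟩⟩
    · rw [← homologyMap_comp, biprod.inl_fst, homologyMap_id]
    · rw [← homologyMap_comp, ← homologyMap_id]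
      conv_rhs => rw [← biprod.total, homologyMap_add, homologyMap_comp biprod.snd biprod.inr,
        ((exactAt_iff_isZero_homology _ _).1 (acyclic_cocone Q n)).eq_of_src
          (homologyMap (biprod.inr : mappingCocone (𝟙 Q) ⟶ M) n) 0, comp_zero, add_zero]⟩
  have hS₂i : ∀ i, (S₂.map (eval A (ComplexShape.up ℤ) i)).ShortExact := fun i => hS₂.map_of_exact _
  have hsp : ∀ i, (s i ≫ (pushout.inl (kernel.ι q) ψ).f i) ≫ p.f i = 𝟙 _ := fun i => by
    rw [Category.assoc, ← comp_f, pushout.inl_desc, hs]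
  refine ⟨Q', p, biprod.inl ≫ pushout.inl _ _, (Category.assoc _ _ _).trans ((congrArg (biprod.inl ≫ ·)
    (pushout.inl_desc _ _ _)).trans (biprod.inl_desc _ _)), inferInstance, fun i => ?_, ?_, fun i => ?_,
    fun i => ⟨⟨_, hsp i⟩, ?_⟩⟩
  · rw [comp_f]
    have : Mono ((biprod.inl : T ⟶ M).f i) := inferInstanceAs (Mono ((eval A (ComplexShape.up ℤ) i).map _))
    have : Mono ((pushout.inl (kernel.ι q) ψ).f i) := inferInstanceAs (Mono ((eval A (ComplexShape.up ℤ) i).map _))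
    infer_instance
  · rw [CochainComplex.isStrictlyGE_iff]
    intro i hi
    exact (hS₂i i).exact.isZero_X₂ ((P.isZero_of_isStrictlyGE a i hi).eq_of_src _ _)
      ((Q.isZero_of_isStrictlyGE a i hi).eq_of_tgt _ _)
  · have := (hS₂i i).mono_f
    have σ := (hS₂i i).exact
    have hsplit : Nonempty (S₂.map (eval A (ComplexShape.up ℤ) i)).Splitting :=
      ⟨ShortComplex.Splitting.ofExactOfSection _ σ _ (hsp i) (hS₂i i).mono_f⟩
    exact I.prop_of_iso hsplit.some.isoBinaryBiproduct.symm (hIprod _ _ (hPI i) (hQ i))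
  · have := (hS₂i i).mono_f
    exact I.prop_of_iso ((hS₂i i).exact.fIsKernel.conePointUniqueUpToIso (limit.isLimit _)) (hPI i)

variable (K : CochainComplex A ℤ)

/-- A stage. -/
structure Stage (n : ℕ) where
  /-- The complex. -/
  Q : CochainComplex A ℤ
  /-- The resolution map. -/
  π : K.truncGE (-(n : ℤ)) ⟶ Q
  qis : QuasiIso π
  mono : ∀ i, Mono (π.f i)
  ge : Q.IsStrictlyGE (-(n : ℤ))
  mem : ∀ i, I (Q.X i)

include hI0 hI in
theorem exists_start : Nonempty (Stage I K 0) := by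
  obtain ⟨Z, hZ, hIZ⟩ := hI0
  obtain ⟨P, ψ, hPa, hPI, hψm, hψ⟩ := GrothLib.ClassRes.exists_resolution (K := K.truncGE (-((0 : ℕ) : ℤ)))
    (I := I) (a := -((0 : ℕ) : ℤ)) hI hZ hIZ (fun n hn => CochainComplex.isZero_of_isStrictlyGE _ _ n hn)
  exact ⟨⟨P, ψ, hψ, hψm, hPa, hPI⟩⟩

/-- The transition map of truncations. -/
noncomputable def trans (b a : ℤ) (h : b ≤ a) : K.truncGE b ⟶ K.truncGE a :=
  haveI : (K.truncGE a).IsStrictlyGE b := (K.truncGE a).isStrictlyGE_of_ge b a h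
  CochainComplex.truncGEMap (K.πTruncGE a) b ≫ inv ((K.truncGE a).πTruncGE b)

theorem π_trans (b a : ℤ) (h : b ≤ a) : K.πTruncGE b ≫ trans K b a h = K.πTruncGE a := by
  have : (K.truncGE a).IsStrictlyGE b := (K.truncGE a).isStrictlyGE_of_ge b a h
  simp [trans]

include hI0 hIprod hI in
theorem exists_system :
    ∃ (Q : ℕ → CochainComplex A ℤ) (p : ∀ n, Q (n + 1) ⟶ Q n) (π : ∀ n : ℕ, K.truncGE (-(n : ℤ)) ⟶ Q n),
      (∀ n, QuasiIso (π n) ∧ ∀ i, Mono ((π n).f i)) ∧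
      (∀ n, ∃ a : ℤ, (Q n).IsStrictlyGE a) ∧ (∀ n i, I ((Q n).X i)) ∧
      (∀ n i, (∃ s : (Q n).X i ⟶ (Q (n + 1)).X i, s ≫ (p n).f i = 𝟙 _) ∧ I (kernel ((p n).f i))) ∧
      (∀ n : ℕ, K.πTruncGE (-((n + 1 : ℕ) : ℤ)) ≫ π (n + 1) ≫ p n = K.πTruncGE (-(n : ℤ)) ≫ π n) := by
  have step : ∀ n (S : Stage I K n), ∃ (S' : Stage I K (n + 1)) (p : S'.Q ⟶ S.Q),
      S'.π ≫ p = trans K _ _ (by omega) ≫ S.π ∧
      ∀ i, (∃ s : S.Q.X i ⟶ S'.Q.X i, s ≫ p.f i = 𝟙 _) ∧ I (kernel (p.f i)) := by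
    intro n S
    have := S.ge
    have : S.Q.IsStrictlyGE (-((n + 1 : ℕ) : ℤ)) := S.Q.isStrictlyGE_of_ge _ (-(n : ℤ)) (by omega)
    obtain ⟨Q', p, φ, h1, h2, h3, h4, h5, h6⟩ := exists_next I hI0 hIprod hI
      (trans K (-((n + 1 : ℕ) : ℤ)) (-(n : ℤ)) (by omega) ≫ S.π) (-((n + 1 : ℕ) : ℤ)) S.mem
    exact ⟨⟨Q', φ, h2, h3, h4, h5⟩, p, h1, h6⟩
  choose next p hp hp' using step
  let st : ∀ n, Stage I K n := fun n => Nat.rec (exists_start I hI0 hI K).some (fun m S => next m S) n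
  refine ⟨fun n => (st n).Q, fun n => p n (st n), fun n => (st n).π, fun n => ⟨(st n).qis, (st n).mono⟩,
    fun n => ⟨_, (st n).ge⟩, fun n => (st n).mem, fun n => hp' n (st n), fun n => ?_⟩
  change K.πTruncGE _ ≫ (next n (st n)).π ≫ p n (st n) = _
  rw [hp, ← Category.assoc, π_trans]

end GrothLib.SpecSys19
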